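import Groth.Agent.H78.Rees.System

/-!
# The kernel of a morphism of graded systems
-/

set_option linter.style.haveILetI false

noncomputable section

universe u

open CategoryTheory Limits AlgebraicGeometry Opposite TopologicalSpace

namespace Groth.Agent.H78.Existence.KerOf

open Groth.Agent.Lib Groth.Agent.Lib.CohBasics.Affine
open Groth.Agent.H78.Formal.Sections Groth.Agent.H78.FormalFun.Basic
open Groth.Agent.H78.Rees Groth.Agent.H78.Rees.System

variable {X : Scheme.{u}} [IsLocallyNoetherian X] {r : ℕ} {S S' : Sys X r}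
variable (φ : ∀ n, S.G n ⟶ S'.G n) (hφ : ∀ i n, S.x i n ≫ φ (n + 1) = φ n ≫ S'.x i n)

/-- The map between the kernels. -/
def xk (i : Fin r) (n : ℕ) : kernel (φ n) ⟶ kernel (φ (n + 1)) :=
  kernel.lift _ (kernel.ι (φ n) ≫ S.x i n) (by rw [Category.assoc, hφ, kernel.condition_assoc, zero_comp])

omit [IsLocallyNoetherian X] in
@[reassoc]
lemma xk_ι (i : Fin r) (n : ℕ) : xk φ hφ i n ≫ kernel.ι (φ (n + 1)) = kernel.ι (φ n) ≫ S.x i n :=
  kernel.lift_ι _ _ _

/-- The system of kernels. -/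
def sys : Sys X r where
  G n := kernel (φ n)
  coh n := CohBasics.Closure.isCoh_kernel _ (S.coh n) (S'.coh n).1
  x := xk φ hφ
  comm i j n := by
    rw [← cancel_mono (kernel.ι (φ (n + 1 + 1))), Category.assoc, Category.assoc, xk_ι, xk_ι,
      xk_ι_assoc, xk_ι_assoc, S.comm]

theorem gen_sys (hS : Gen S) : Gen (sys φ hφ) := by
  intro U hU
  obtain ⟨N, hN⟩ := hS U hU
  haveI : IsNoetherianRing Γ(X, U) := IsLocallyNoetherian.component_noetherian ⟨U, hU⟩
  haveI : ∀ n, Module.Finite Γ(X, U) Γ(S.G n, U) := fun n => CohBasics.Closure.finite_sections (S.coh n) hU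
  let K : ∀ n, Submodule Γ(X, U) Γ(S.G n, U) := fun n => LinearMap.ker (secₗ (φ n) U)
  obtain ⟨N', hN'⟩ := Graded.sub_generated (fun i n => secₗ (S.x i n) U)
    (fun i j n m => by
      change ((S.x j n ≫ S.x i (n + 1))).app U m = (S.x i n ≫ S.x j (n + 1)).app U m
      rw [S.comm])
    hN K (fun i n m hm => by
      change (S.x i n ≫ φ (n + 1)).app U m = 0
      rw [hφ]
      change (S'.x i n).app U ((φ n).app U m) = 0
      rw [show (φ n).app U m = 0 from hm, map_zero])
  refine ⟨N', fun n hn z _ => ?_⟩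
  let ι := fun n => secₗ (kernel.ι (φ n)) U
  have hι : ∀ n (m : Γ(S.G n, U)), m ∈ K n → m ∈ LinearMap.range (ι n) := fun n m hm => by
    let T := ShortComplex.mk (kernel.ι (φ n)) (φ n) (kernel.condition _)
    haveI : Mono T.f := inferInstanceAs (Mono (kernel.ι (φ n)))
    obtain ⟨c, hc⟩ := QCoh.Closure.sections_exact (S := T)
      (T.exact_of_f_is_kernel (kernelIsKernel (φ n))) U m hm
    exact ⟨c, hc⟩
  have hz : ι (n + 1) z ∈ K (n + 1) := by
    change (kernel.ι (φ (n + 1)) ≫ φ (n + 1)).app U z = 0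
    rw [kernel.condition]
    rfl
  have hle : ⨆ i, Submodule.map (secₗ (S.x i n) U) (K n) ≤
      Submodule.map (ι (n + 1)) (⨆ i, LinearMap.range (secₗ ((sys φ hφ).x i n) U)) := by
    refine iSup_le fun i => ?_
    rintro _ ⟨m, hm, rfl⟩
    obtain ⟨c, rfl⟩ := hι n m hm
    refine ⟨secₗ (xk φ hφ i n) U c, Submodule.mem_iSup_of_mem i ⟨c, rfl⟩, ?_⟩
    change (xk φ hφ i n ≫ kernel.ι (φ (n + 1))).app U c = _
    rw [xk_ι]
    rfl
  obtain ⟨z', hz', he⟩ := hle (hN' n hn hz)
  rwa [← QCoh.Closure.sections_injective_of_mono (kernel.ι (φ (n + 1))) U he]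

end Groth.Agent.H78.Existence.KerOf
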