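import Groth.Agent.H78.Existence.KerSys
import Groth.Agent.H78.Existence.KerOf

/-!
# The tower of kernels of an epimorphism of coherent formal modules
-/

set_option linter.style.haveILetI false

noncomputable section

universe u

open CategoryTheory Limits AlgebraicGeometry Opposite TopologicalSpace

namespace Groth.Agent.H78.Existence.KerTower

open Groth.Agent.Lib Groth.Agent.Lib.CohBasics.Affine
open Groth.Agent.H78.Formal.Sections Groth.Agent.H78.FormalFun.Basic
open Groth.Agent.H78.Rees Groth.Agent.H78.Existence.KerSys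

variable {A : Type u} [CommRing A] {X : Scheme.{u}} [X.Over (Spec (CommRingCat.of A))]
variable {I : Ideal A} {C G : ℕᵒᵖ ⥤ X.Modules}
variable (v : ∀ n, C.obj (op n) ⟶ G.obj (op n)) (hv : ∀ n, v (n + 1) ≫ t G n = t C n ≫ v n)

/-- The kernels. -/
abbrev K (n : ℕ) : X.Modules := kernel (v n)

/-- The transition maps of the kernels. -/
def τ (n : ℕ) : K v (n + 1) ⟶ K v n :=
  kernel.lift _ (kernel.ι (v (n + 1)) ≫ t C n) (by
    rw [Category.assoc, ← hv, kernel.condition_assoc, zero_comp])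

@[reassoc]
lemma τ_ι (n : ℕ) : τ v hv n ≫ kernel.ι (v n) = kernel.ι (v (n + 1)) ≫ t C n :=
  kernel.lift_ι _ _ _

variable (hC : _root_.Formal.IsCohFormal I C) (hG : _root_.Formal.IsCohFormal I G)
include hC hG

lemma qcoh_K (n : ℕ) : (K v n).IsQuasicoherent :=
  haveI := Formal.Sys.qcoh hC n
  haveI := Formal.Sys.qcoh hG n
  QCoh.Closure.isQCoh_kernel (v n)

omit hC hG in
lemma exists_ι {n : ℕ} {U : X.Opens} {s : Γ(C.obj (op n), U)} (hs : (v n).app U s = 0) :
    ∃ k, (kernel.ι (v n)).app U k = s := by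
  let T := ShortComplex.mk (kernel.ι (v n)) (v n) (kernel.condition _)
  haveI : Mono T.f := inferInstanceAs (Mono (kernel.ι (v n)))
  exact QCoh.Closure.sections_exact (S := T) (T.exact_of_f_is_kernel (kernelIsKernel (v n))) U s hs

variable (hs : ∀ n (U : X.Opens), IsAffineOpen U → Function.Surjective ((v n).app U))
include hs

lemma τ_surjective (n : ℕ) {U : X.Opens} (hU : IsAffineOpen U) :
    Function.Surjective ((τ v hv n).app U) := fun k => by
  obtain ⟨c, hc⟩ := (Formal.Sys.succ_spec hC n hU).1 ((kernel.ι (v n)).app U k)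
  have h1 : (t G n).app U ((v (n + 1)).app U c) = 0 := by
    change (v (n + 1) ≫ t G n).app U c = 0
    rw [hv]
    change (v n).app U ((t C n).app U c) = 0
    rw [hc]
    change (kernel.ι (v n) ≫ v n).app U k = 0
    rw [kernel.condition]; rfl
  have hr : LinearMap.range (secₗ (v (n + 1)) U) = ⊤ := LinearMap.range_eq_top.2 (hs (n + 1) U hU)
  rw [(Formal.Sys.succ_spec hG n hU).2, ← hr, ← Submodule.map_top, ← Submodule.map_smul''] at h1
  obtain ⟨q, hq, hqe⟩ := h1
  obtain ⟨k', hk'⟩ := exists_ι v (n := n + 1) (U := U) (s := c - q) (by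
    rw [map_sub, sub_eq_zero]; exact hqe.symm)
  refine ⟨k', QCoh.Closure.sections_injective_of_mono (kernel.ι (v n)) U ?_⟩
  change (τ v hv n ≫ kernel.ι (v n)).app U k' = _
  rw [τ_ι]
  change (t C n).app U ((kernel.ι (v (n + 1))).app U k') = _
  rw [hk', map_sub, ((Formal.Sys.succ_spec hC n hU).2 q).2 hq, sub_zero, hc]

lemma epi_τ (n : ℕ) : Epi (τ v hv n) :=
  haveI := qcoh_K v hC hG n
  haveI := qcoh_K v hC hG (n + 1)
  epi_of_cover _ fun x => by
    obtain ⟨U, hU, hx⟩ := exists_affine x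
    exact ⟨U, hU, hx, τ_surjective v hv hC hG hs n hU⟩

omit hs
include hv

lemma ν_v {a : A} (ha : a ∈ I) (n : ℕ) :
    ν hC ha n ≫ v (n + 1 + 1) = v (n + 1) ≫ ν hG ha n := by
  haveI := epi_t hC (n + 1)
  rw [← cancel_epi (t C (n + 1)), t_ν_assoc, ← reassoc_of% (hv (n + 1)), t_ν, smulMod_comp]

/-- Multiplication by an element of `I` on the kernels. -/
def y {a : A} (ha : a ∈ I) (n : ℕ) : K v (n + 1) ⟶ K v (n + 1 + 1) :=
  kernel.lift _ (kernel.ι (v (n + 1)) ≫ ν hC ha n) (by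
    rw [Category.assoc, ν_v v hv hC hG, kernel.condition_assoc, zero_comp])

@[reassoc]
lemma y_ι {a : A} (ha : a ∈ I) (n : ℕ) :
    y v hv hC hG ha n ≫ kernel.ι (v (n + 1 + 1)) = kernel.ι (v (n + 1)) ≫ ν hC ha n :=
  kernel.lift_ι _ _ _

lemma τ_y {a : A} (ha : a ∈ I) (n : ℕ) :
    τ v hv (n + 1) ≫ y v hv hC hG ha n = _root_.Formal.smulMod A _ a := by
  rw [← cancel_mono (kernel.ι (v (n + 1 + 1))), Category.assoc, y_ι, τ_ι_assoc, t_ν, smulMod_comp]

omit hC hG
/-- The maps between the kernels of the transition maps. -/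
def φ (n : ℕ) : kernel (t C n) ⟶ kernel (t G n) :=
  kernel.lift _ (kernel.ι (t C n) ≫ v (n + 1)) (by
    rw [Category.assoc, hv, kernel.condition_assoc, zero_comp])

@[reassoc]
lemma φ_ι (n : ℕ) : φ v hv n ≫ kernel.ι (t G n) = kernel.ι (t C n) ≫ v (n + 1) :=
  kernel.lift_ι _ _ _

/-- The kernel of a transition map between the kernels. -/
def δ (n : ℕ) : kernel (φ v hv n) ⟶ K v (n + 1) :=
  kernel.lift _ (kernel.ι (φ v hv n) ≫ kernel.ι (t C n)) (by
    rw [Category.assoc, ← φ_ι v hv, kernel.condition_assoc, zero_comp])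

@[reassoc]
lemma δ_ι (n : ℕ) : δ v hv n ≫ kernel.ι (v (n + 1)) = kernel.ι (φ v hv n) ≫ kernel.ι (t C n) :=
  kernel.lift_ι _ _ _

lemma δ_τ (n : ℕ) : δ v hv n ≫ τ v hv n = 0 := by
  rw [← cancel_mono (kernel.ι (v n)), Category.assoc, τ_ι, δ_ι_assoc, kernel.condition, comp_zero, zero_comp]

include hC hG hs in
lemma shortExact (n : ℕ) : (ShortComplex.mk (δ v hv n) (τ v hv n) (δ_τ v hv n)).ShortExact := by
  haveI : Epi (τ v hv n) := epi_τ v hv hC hG hs n
  haveI : Mono (δ v hv n) := by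
    haveI : Mono (δ v hv n ≫ kernel.ι (v (n + 1))) := by rw [δ_ι]; infer_instance
    exact mono_of_mono (δ v hv n) (kernel.ι (v (n + 1)))
  refine { exact := ShortComplex.exact_of_f_is_kernel _ ?_ }
  refine KernelFork.IsLimit.ofι' _ _ fun {W} k hk => ?_
  have h1 : (k ≫ kernel.ι (v (n + 1))) ≫ t C n = 0 := by
    rw [Category.assoc, ← τ_ι v hv, ← Category.assoc, show k ≫ τ v hv n = 0 from hk, zero_comp]
  have h2 : kernel.lift (t C n) _ h1 ≫ φ v hv n = 0 := by
    rw [← cancel_mono (kernel.ι (t G n)), Category.assoc, φ_ι, ← Category.assoc, kernel.lift_ι,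
      Category.assoc, kernel.condition, comp_zero, zero_comp]
  refine ⟨kernel.lift _ _ h2, ?_⟩
  rw [← cancel_mono (kernel.ι (v (n + 1))), Category.assoc, δ_ι, ← Category.assoc, kernel.lift_ι,
    kernel.lift_ι]

section Sys

variable [IsLocallyNoetherian X] {r : ℕ} (f : Fin r → A) (hf : ∀ i, f i ∈ I)
include hC hG

theorem hφ (i : Fin r) (n : ℕ) :
    (KerSys.sys hC f hf).x i n ≫ φ v hv (n + 1) = φ v hv n ≫ (KerSys.sys hG f hf).x i n := by
  change xker hC (hf i) n ≫ φ v hv (n + 1) = φ v hv n ≫ xker hG (hf i) n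
  rw [← cancel_mono (kernel.ι (t G (n + 1))), Category.assoc, Category.assoc, φ_ι, xker_ι, xker_ι_assoc,
    φ_ι_assoc, ν_v v hv hC hG]

/-- The system of the kernels of the transition maps. -/
abbrev sys : System.Sys X r :=
  KerOf.sys (S := KerSys.sys hC f hf) (S' := KerSys.sys hG f hf) (φ v hv) (hφ v hv hC hG f hf)

theorem gen_sys (hI : I = Ideal.span (Set.range f)) : System.Gen (sys v hv hC hG f hf) :=
  KerOf.gen_sys (S := KerSys.sys hC f hf) (S' := KerSys.sys hG f hf) _ _ (KerSys.gen_sys hC f hf hI)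

theorem δ_y (i : Fin r) (n : ℕ) :
    (sys v hv hC hG f hf).x i n ≫ δ v hv (n + 1) = δ v hv n ≫ y v hv hC hG (hf i) n := by
  change KerOf.xk (S := KerSys.sys hC f hf) (S' := KerSys.sys hG f hf) (φ v hv) (hφ v hv hC hG f hf) i n ≫ _ = _
  refine (cancel_mono (kernel.ι (v (n + 1 + 1)))).1 ?_
  refine ((Category.assoc _ _ _).trans (congrArg (_ ≫ ·) (δ_ι v hv (n + 1)))).trans ?_
  refine ((Category.assoc _ _ _).symm.trans (congrArg (· ≫ kernel.ι (t C (n + 1)))
    (KerOf.xk_ι (S := KerSys.sys hC f hf) (S' := KerSys.sys hG f hf) (φ v hv)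
      (hφ v hv hC hG f hf) i n))).trans ?_
  refine ((Category.assoc _ _ _).trans (congrArg (kernel.ι (φ v hv n) ≫ ·) (xker_ι hC (hf i) n))).trans ?_
  exact ((δ_ι_assoc v hv n (ν hC (hf i) n)).symm.trans
    (congrArg (δ v hv n ≫ ·) (y_ι v hv hC hG (hf i) n)).symm).trans (Category.assoc _ _ _).symm

end Sys

end Groth.Agent.H78.Existence.KerTower
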