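import Groth.Agent.H78.Existence.Lift
import Groth.Agent.H78.Existence.KerTower
import Groth.Agent.H78.Formal.Compl
import Groth.Agent.H78.Formal.Algebraize
import Groth.Agent.H78.Faithful.Completion
import Groth.Agent.Lib.Snapper.Finite

/-!
# Grothendieck's existence theorem with an ample module
-/

set_option linter.style.haveILetI false

noncomputable section

universe u

open CategoryTheory Limits AlgebraicGeometry Opposite TopologicalSpace

namespace Groth.Agent.H78.Existence.Construct

open Groth.Agent.Lib Groth.Agent.Lib.CohBasics.Affine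
open Groth.Agent.H78.Formal.Sections Groth.Agent.H78.FormalFun.Basic
open Groth.Agent.H78.Rees Groth.Agent.H78.Existence.KerSys

variable {A : Type u} [CommRing A] {X : Scheme.{u}} [X.Over (Spec (CommRingCat.of A))]
variable {I : Ideal A} {G : ℕᵒᵖ ⥤ X.Modules}

lemma surjective_of_zero (hG : _root_.Formal.IsCohFormal I G) {P : X.Modules}
    (u : ∀ n, P ⟶ G.obj (op n)) (hu : ∀ n, u (n + 1) ≫ t G n = u n) {U : X.Opens} (hU : IsAffineOpen U)
    (h0 : Function.Surjective ((u 0).app U)) (n : ℕ) : Function.Surjective ((u n).app U) := by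
  induction n with
  | zero => exact h0
  | succ n ih =>
    set J := sIdeal I U
    set R := LinearMap.range (secₗ (u (n + 1)) U)
    have htop : (⊤ : Submodule Γ(X, U) Γ(G.obj (op (n + 1)), U)) ≤ R ⊔ J ^ (n + 1) • ⊤ := fun z _ => by
      obtain ⟨w, hw⟩ := ih ((t G n).app U z)
      refine Submodule.mem_sup.2 ⟨(u (n + 1)).app U w, ⟨w, rfl⟩, z - (u (n + 1)).app U w, ?_, add_sub_cancel _ _⟩
      rw [← (Formal.Sys.succ_spec hG n hU).2, map_sub, sub_eq_zero, ← hw, ← hu n]
      rfl
    have h2 : J ^ (n + 1) • (⊤ : Submodule Γ(X, U) Γ(G.obj (op (n + 1)), U)) ≤ R := by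
      refine (Submodule.smul_mono le_rfl htop).trans ?_
      rw [Submodule.smul_sup, sup_le_iff, ← mul_smul, ← pow_add]
      refine ⟨Submodule.smul_le_right, ?_⟩
      refine (Submodule.smul_mono_left (Ideal.pow_le_pow_right (show n + 1 + 1 ≤ n + 1 + (n + 1) by omega))).trans ?_
      rw [Formal.Sys.killed hG (n + 1) hU]
      exact bot_le
    intro z
    exact (htop.trans (sup_le le_rfl h2)) (Submodule.mem_top (x := z))

lemma surjective_tower {C : ℕᵒᵖ ⥤ X.Modules} (hC : _root_.Formal.IsCohFormal I C)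
    (hG : _root_.Formal.IsCohFormal I G) (v : ∀ n, C.obj (op n) ⟶ G.obj (op n))
    (hv : ∀ n, v (n + 1) ≫ t G n = t C n ≫ v n)
    (hs : ∀ n (U : X.Opens), IsAffineOpen U → Function.Surjective ((v n).app U))
    [IsLocallyNoetherian X] {r : ℕ} (f : Fin r → A) (hf : ∀ i, f i ∈ I) (N : ℕ)
    {Q : X.Modules} (W : ∀ j, Q ⟶ KerTower.K v (N + j + 1))
    (hW : ∀ j, W (j + 1) ≫ KerTower.τ v hv (N + j + 1) = W j)
    {U : X.Opens} (hU : IsAffineOpen U)
    (hgen : ∀ n, N ≤ n → (⊤ : Submodule Γ(X, U) Γ((KerTower.sys v hv hC hG f hf).G (n + 1), U)) ≤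
      ⨆ i, LinearMap.range (secₗ ((KerTower.sys v hv hC hG f hf).x i n) U))
    (h0 : Function.Surjective ((W 0).app U)) (j : ℕ) : Function.Surjective ((W j).app U) := by
  induction j with
  | zero => exact h0
  | succ j ih =>
    intro z
    obtain ⟨q, hq⟩ := ih ((KerTower.τ v hv (N + j + 1)).app U z)
    have h1 : (KerTower.τ v hv (N + j + 1)).app U (z - (W (j + 1)).app U q) = 0 := by
      rw [map_sub, sub_eq_zero, ← hq, ← hW j]
      rfl
    haveI : Mono (KerTower.δ v hv (N + j + 1)) :=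
      (KerTower.shortExact v hv hC hG hs (N + j + 1)).mono_f
    obtain ⟨d, hd⟩ := QCoh.Closure.sections_exact
      (S := ShortComplex.mk _ _ (KerTower.δ_τ v hv (N + j + 1)))
      (KerTower.shortExact v hv hC hG hs (N + j + 1)).exact U _ h1
    have hle : ⨆ i, LinearMap.range (secₗ ((KerTower.sys v hv hC hG f hf).x i (N + j)) U) ≤
        Submodule.comap (secₗ (KerTower.δ v hv (N + j + 1)) U) (LinearMap.range (secₗ (W (j + 1)) U)) := by
      refine iSup_le fun i => ?_
      rintro _ ⟨d', rfl⟩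
      obtain ⟨q', hq'⟩ := ih ((KerTower.δ v hv (N + j)).app U d')
      refine ⟨sMap A U (f i) • q', ?_⟩
      rw [map_smul]
      let z' : Γ(KerTower.K v (N + j + 1 + 1), U) := (W (j + 1)).app U q'
      have e1 : sMap A U (f i) • z' = (KerTower.y v hv hC hG (hf i) (N + j)).app U
          ((KerTower.τ v hv (N + j + 1)).app U z') :=
        (smulMod_app _ (f i) U z').symm.trans
          (congrArg (fun χ : KerTower.K v (N + j + 1 + 1) ⟶ _ => χ.app U z')
            (KerTower.τ_y v hv hC hG (hf i) (N + j))).symm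
      refine (e1.trans ?_ : sMap A U (f i) • z' =
        ((KerTower.sys v hv hC hG f hf).x i (N + j) ≫ KerTower.δ v hv (N + j + 1)).app U d')
      refine Eq.trans ?_ (congrArg (fun χ => χ.app U d') (KerTower.δ_y v hv hC hG f hf i (N + j))).symm
      exact congrArg ((KerTower.y v hv hC hG (hf i) (N + j)).app U)
        ((congrArg (fun χ => χ.app U q') (hW j)).trans hq')
    obtain ⟨q₂, hq₂⟩ := hle (hgen (N + j) (Nat.le_add_right N j) (Submodule.mem_top (x := d)))
    refine ⟨q + q₂, ?_⟩
    rw [map_add, show (W (j + 1)).app U q₂ = z - (W (j + 1)).app U q from hq₂.trans hd, add_sub_cancel]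

lemma exists_hom (hG : _root_.Formal.IsCohFormal I G) {Q : X.Modules} (u : ∀ n, Q ⟶ G.obj (op n))
    (hu : ∀ n, u (n + 1) ≫ t G n = u n) :
    ∃ α : _root_.Formal.completion I Q ⟶ G,
      ∀ n, _root_.Formal.modPowπ I (n + 1) Q ≫ α.app (op n) = u n := by
  have h : ∀ n, _root_.Formal.smulFamily (I ^ (n + 1)) Q ≫ u n = 0 := fun n =>
    (Formal.PullSys.family_comp_iff _).mpr fun a ha => by
      rw [smulMod_comp, hG.2.1 n a ha, comp_zero]
  let app : ∀ n, _root_.Formal.modPow I (n + 1) Q ⟶ G.obj (op n) := fun n =>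
    cokernel.desc _ (u n) (h n)
  refine ⟨NatTrans.ofOpSequence app fun n => ?_, fun n => cokernel.π_desc _ _ (h n)⟩
  simp only [_root_.Formal.completion, Functor.ofOpSequence_map_homOfLE_succ]
  refine coequalizer.hom_ext ?_
  change _root_.Formal.modPowπ I (n + 1 + 1) Q ≫ _root_.Formal.modPowTrans I (n + 1) Q ≫ app n =
    _root_.Formal.modPowπ I (n + 1 + 1) Q ≫ app (n + 1) ≫ _
  rw [← Category.assoc, _root_.Formal.modPowπ_trans, ← Category.assoc]
  exact (cokernel.π_desc _ _ (h n)).trans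
    ((hu n).symm.trans (congrArg (· ≫ _) (cokernel.π_desc _ _ (h (n + 1))).symm))

variable (A) in
/-- Coherent formal modules on a proper scheme with an ample module are completions. -/
theorem exists_algebraization [IsNoetherianRing A] [IsAdicComplete I A]
    [IsProper (X ↘ Spec (CommRingCat.of A))] {L : X.Modules} (hA : CohB1.IsAmple L)
    (hG : _root_.Formal.IsCohFormal I G) :
    ∃ M : X.Modules, Coh.IsCoh M ∧ Nonempty (_root_.Formal.completion I M ≅ G) := by
  haveI := AmpleVanish.isNoetherian_of_proper A (X := X)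
  obtain ⟨r, f, hI⟩ :=
    Submodule.fg_iff_exists_fin_generating_family.mp ((isNoetherianRing_iff_ideal_fg A).mp ‹_› I)
  have hf : ∀ i, f i ∈ I := fun i => hI ▸ Submodule.subset_span ⟨i, rfl⟩
  -- generators
  obtain ⟨d₀, hd₀⟩ := Vanish.exists_vanish A hA (KerSys.sys hG f hf) (KerSys.gen_sys hG f hf hI.symm)
  obtain ⟨n₀, hn₀⟩ := Ample.GG.eventually_genAt_twist hA (G.obj (op 0)) (hG.1 0)
  obtain ⟨P, u, hP, hu0, hu⟩ := Lift.exists_family hA.1 (max d₀ n₀) (fun n => G.obj (op n)) (hG.1 0)
    (fun n => t G n) (fun n => kernel (t G n)) (fun n => kernel.ι (t G n)) (fun n => kernel.condition _)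
    (fun n => by
      haveI := KerSys.epi_t hG n
      exact { exact := ShortComplex.exact_of_f_is_kernel _ (kernelIsKernel (t G n)) })
    (fun n => hd₀ n _ (le_max_left _ _) 0) (hn₀ _ (le_max_right _ _))
  haveI := hP.1
  haveI := hu0
  haveI := fun n => Formal.Sys.qcoh hG n
  have hus : ∀ n (U : X.Opens), IsAffineOpen U → Function.Surjective ((u n).app U) := fun n U hU =>
    surjective_of_zero hG u hu hU (QCoh.Closure.sections_surjective_of_epi (u 0) hU) n
  -- the tower of kernels
  let C := _root_.Formal.completion I P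
  have hC : _root_.Formal.IsCohFormal I C := Formal.Compl.isCohFormal_completion I hP
  let π : ∀ n, P ⟶ C.obj (op n) := fun n => _root_.Formal.modPowπ I (n + 1) P
  haveI hπe : ∀ n, Epi (π n) := fun n => coequalizer.π_epi
  have hπ : ∀ n, π (n + 1) ≫ t C n = π n := fun n =>
    (congrArg (_root_.Formal.modPowπ I (n + 1 + 1) P ≫ ·)
      (Functor.ofOpSequence_map_homOfLE_succ _ n)).trans (_root_.Formal.modPowπ_trans I (n + 1) P)
  have hdes : ∀ n, ∃ v : C.obj (op n) ⟶ G.obj (op n), π n ≫ v = u n := fun n =>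
    ⟨cokernel.desc _ (u n) ((Formal.PullSys.family_comp_iff _).mpr fun a ha => by
      rw [smulMod_comp, hG.2.1 n a ha, comp_zero]), cokernel.π_desc _ _ _⟩
  choose v hπv using hdes
  have hv : ∀ n, v (n + 1) ≫ t G n = t C n ≫ v n := fun n => by
    rw [← cancel_epi (π (n + 1)), ← Category.assoc, hπv, hu, ← Category.assoc, hπ, hπv]
  have hs : ∀ n (U : X.Opens), IsAffineOpen U → Function.Surjective ((v n).app U) := fun n U hU z => by
    obtain ⟨p, hp⟩ := hus n U hU z
    exact ⟨(π n).app U p, (congrArg (fun χ => χ.app U p) (hπv n)).trans hp⟩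
  let S := KerTower.sys v hv hC hG f hf
  obtain ⟨N, hN⟩ := exists_uniform (X := X)
    (fun U N => ∀ n, N ≤ n → (⊤ : Submodule Γ(X, U) Γ(S.G (n + 1), U)) ≤
      ⨆ i, LinearMap.range (secₗ (S.x i n) U))
    (fun U m n h hm k hk => hm k (h.trans hk))
    (fun U hU => KerTower.gen_sys v hv hC hG f hf hI.symm U hU)
  obtain ⟨e₀, he₀⟩ := Vanish.exists_vanish A hA S (KerTower.gen_sys v hv hC hG f hf hI.symm)
  haveI hqK := fun n => KerTower.qcoh_K v hC hG n
  have hKc : Coh.IsCoh (KerTower.K v (N + 0 + 1)) :=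
    CohBasics.Closure.isCoh_kernel _ (hC.1 _) (hG.1 _).1
  obtain ⟨m₀, hm₀⟩ := Ample.GG.eventually_genAt_twist hA _ hKc
  obtain ⟨Q, W, hQ, hW0, hW⟩ := Lift.exists_family hA.1 (max e₀ m₀)
    (fun j => KerTower.K v (N + j + 1)) hKc
    (fun j => KerTower.τ v hv (N + j + 1)) (fun j => kernel (KerTower.φ v hv (N + j + 1)))
    (fun j => KerTower.δ v hv (N + j + 1)) (fun j => KerTower.δ_τ v hv (N + j + 1))
    (fun j => KerTower.shortExact v hv hC hG hs (N + j + 1))
    (fun j => he₀ (N + j + 1) _ (le_max_left _ _) 0) (hm₀ _ (le_max_right _ _))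
  haveI := hQ.1
  haveI : ∀ j, Epi (W j) := fun j => epi_of_cover _ fun x => by
    obtain ⟨U, hU, hx, hg⟩ := hN x
    haveI := hW0
    exact ⟨U, hU, hx, surjective_tower hC hG v hv hs f hf N W hW hU hg
      (QCoh.Closure.sections_surjective_of_epi (W 0) hU) j⟩
  let KF : ℕᵒᵖ ⥤ X.Modules := Functor.ofOpSequence (X := fun n => KerTower.K v n) (KerTower.τ v hv)
  haveI hKF : ∀ {a b : ℕ} (h : a ≤ b), Epi (KF.map (homOfLE h).op) := by
    intro a b h
    induction b, h using Nat.le_induction with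
    | base => rw [show (homOfLE (le_refl a)).op = 𝟙 (op a) from rfl, KF.map_id]; infer_instance
    | succ b h ih =>
      rw [show (homOfLE (h.trans (Nat.le_succ b))).op = (homOfLE (Nat.le_succ b)).op ≫ (homOfLE h).op from rfl,
        KF.map_comp]
      haveI := ih
      haveI : Epi (KF.map (homOfLE (Nat.le_succ b)).op) := by
        rw [Functor.ofOpSequence_map_homOfLE_succ]
        exact KerTower.epi_τ v hv hC hG hs b
      exact epi_comp _ _
  have hle : ∀ n, n ≤ N + n + 1 := fun n => by omega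
  let w : ∀ n, Q ⟶ KerTower.K v n := fun n => W n ≫ KF.map (homOfLE (hle n)).op
  have hw : ∀ n, w (n + 1) ≫ KerTower.τ v hv n = w n := fun n => by
    have e1 : ∀ m, KF.map (homOfLE (Nat.le_succ m)).op = KerTower.τ v hv m := fun m =>
      Functor.ofOpSequence_map_homOfLE_succ _ m
    have key : KF.map (homOfLE (hle (n + 1))).op ≫ KF.map (homOfLE (Nat.le_succ n)).op =
        KF.map (homOfLE (Nat.le_succ (N + n + 1))).op ≫ KF.map (homOfLE (hle n)).op :=
      (KF.map_comp _ _).symm.trans ((congrArg KF.map (Subsingleton.elim _ _)).trans (KF.map_comp _ _))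
    rw [e1, e1] at key
    refine ((Category.assoc _ _ _).trans (congrArg (W (n + 1) ≫ ·) key)).trans ?_
    exact (Category.assoc _ _ _).symm.trans (congrArg (· ≫ KF.map (homOfLE (hle n)).op) (hW n))
  have hws : ∀ n (U : X.Opens), IsAffineOpen U → Function.Surjective ((w n).app U) := fun n U hU =>
    haveI : Epi (w n) := @epi_comp _ _ _ _ _ (W n) inferInstance _ (hKF (hle n))
    QCoh.Closure.sections_surjective_of_epi (w n) hU
  -- the map
  obtain ⟨α, hπa⟩ := exists_hom hC (fun n => w n ≫ kernel.ι (v n)) fun n => by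
    rw [Category.assoc, ← KerTower.τ_ι v hv, ← Category.assoc, hw]
  have hprop : ClSub.IsProperOver (X ↘ Spec (CommRingCat.of A)) (Set.univ : Set X) :=
    ⟨isClosed_univ, inferInstance⟩
  obtain ⟨ψ, hψ, -⟩ := Faithful.Completion.existsUnique_of_good I
    (FormalFun.ProperSupport.good Snapper.Finite.facts hprop) hQ hP
    ⟨RefHull.HomSh.isCoh_homSh hQ hP, Set.subset_univ _⟩ α
  have hψn : ∀ n, w n ≫ kernel.ι (v n) = ψ ≫ π n := fun n => (hπa n).symm.trans (hψ n)
  -- the algebraization
  have hMc : Coh.IsCoh (cokernel ψ) := CohBasics.Closure.isCoh_cokernel _ hQ.1 hP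
  haveI := hMc.1
  have h0 : ∀ n, ψ ≫ u n = 0 := fun n => by
    rw [← hπv n, ← Category.assoc, ← hψn n, Category.assoc, kernel.condition, comp_zero]
  refine ⟨cokernel ψ, hMc, ?_⟩
  refine Exists.elim (Formal.Sys.exists_completion_iso (M := cokernel ψ) hG
    (fun n => cokernel.desc ψ (u n) (h0 n))
    (fun n => by rw [← cancel_epi (cokernel.π ψ), cokernel.π_desc_assoc, cokernel.π_desc, hu])
    (fun n U hU z => ?_) (fun n U hU m => ?_)) fun β _ => ⟨β⟩
  · obtain ⟨p, hp⟩ := hus n U hU z
    exact ⟨(cokernel.π ψ).app U p,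
      (congrArg (fun χ => χ.app U p) (cokernel.π_desc ψ (u n) (h0 n))).trans hp⟩
  · obtain ⟨p, rfl⟩ := QCoh.Closure.sections_surjective_of_epi (cokernel.π ψ) hU m
    have e : (cokernel.desc ψ (u n) (h0 n)).app U ((cokernel.π ψ).app U p) = (u n).app U p :=
      congrArg (fun χ => χ.app U p) (cokernel.π_desc ψ (u n) (h0 n))
    rw [e]
    constructor
    · intro hp
      obtain ⟨k, hk⟩ := KerTower.exists_ι v (n := n) (U := U) (s := (π n).app U p)
        ((congrArg (fun χ => χ.app U p) (hπv n)).trans hp)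
      obtain ⟨q, rfl⟩ := hws n U hU k
      have h1 : (π n).app U (p - ψ.app U q) = 0 := by
        rw [map_sub, sub_eq_zero, ← hk]
        exact congrArg (fun χ => χ.app U q) (hψn n)
      replace h1 := (modPowπ_eq_zero_iff (M := P) I (n + 1) hU _).1 h1
      try rw [sIdeal_pow] at h1
      have h2 : (cokernel.π ψ).app U (ψ.app U q) = 0 :=
        congrArg (fun χ => χ.app U q) (cokernel.condition ψ)
      have h3 := Submodule.mem_map_of_mem (f := secₗ (cokernel.π ψ) U) h1
      rw [Submodule.map_smul'', secₗ_apply, map_sub, h2, sub_zero] at h3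
      exact Submodule.smul_mono le_rfl le_top h3
    · intro hp
      have hle' : sIdeal I U ^ (n + 1) • (⊤ : Submodule Γ(X, U) Γ(cokernel ψ, U)) ≤
          LinearMap.ker (secₗ (cokernel.desc ψ (u n) (h0 n)) U) := by
        rw [← sIdeal_pow, sIdeal_smul_le_iff]
        intro a ha z _
        rw [LinearMap.mem_ker, map_smul, secₗ_apply, ← smulMod_app, hG.2.1 n a ha]
        rfl
      have h5 := hle' hp
      rw [LinearMap.mem_ker, secₗ_apply, e] at h5
      exact h5

end Groth.Agent.H78.Existence.Construct
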