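import Groth.Agent.Lib.SurfInt.GGAmple
import Groth.Agent.Lib.Cyc.PP.Push
import Groth.Agent.Lib.Curves.LES
import Groth.Agent.Lib.Snapper.Twist
import Groth.Agent.Lib.ProjCoh.Coherent
import Groth.Agent.Lib.Modules.ProjFormula

/-!
# Serre vanishing for an ample module on a proper scheme over a Noetherian ring
-/

set_option autoImplicit false
set_option linter.style.haveILetI false
universe u

open CategoryTheory CategoryTheory.Limits AlgebraicGeometry TopologicalSpace

namespace Groth.Agent.H78.Existence.AmpleVanish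

open Groth.Agent.Lib Groth.Agent.Lib.Ample.GenLocus
open Groth.Agent.Lib.TensorMod.Basic (comm assoc tensorIso)
open Groth.Agent.Lib.Curves.LES (isoK)

variable (k : Type u) [CommRing k] [IsNoetherianRing k] {X : Scheme.{u}} [X.Over (Spec (CommRingCat.of k))]
  [IsProper (X ↘ Spec (CommRingCat.of k))]

include k


theorem isNoetherian_of_proper :
    IsNoetherian X := by
  haveI : IsLocallyNoetherian X :=
    LocallyOfFiniteType.isLocallyNoetherian (X ↘ Spec (CommRingCat.of k))
  haveI : CompactSpace X := QuasiCompact.compactSpace_of_compactSpace (X ↘ Spec (CommRingCat.of k))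
  exact {}

/-- A finite morphism to projective space pulling `O(1)` back to a power of an ample module. -/
theorem exists_finite_map {L : X.Modules} (hA : CohB1.IsAmple L) :
    ∃ m : ℕ, 0 < m ∧ ∃ (N : ℕ) (r : X ⟶ CohB1.ProjSpace N k), IsFinite r ∧
      r ≫ CohB1.ProjSpace.toSpec N k = X ↘ Spec (CommRingCat.of k) ∧
      Nonempty ((Scheme.Modules.pullback r).obj (Twist.twistProjSpace N k 1) ≅ CohB1.tensorPow L m) := by
  classical
  haveI := isNoetherian_of_proper k (X := X)
  obtain ⟨m, hm, N₁, σ, haff, hcovσ⟩ := Ample.GG.exists_common_pow hA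
  have hLm := TensorMod.Invertible.isInvertible_tensorPow hA.1 m
  obtain ⟨N, φ, hφaff, hφcov⟩ : ∃ (N : ℕ) (φ : Fin (N + 1) →
      (Coh.structureModule X ⟶ CohB1.tensorPow L m)),
      (∀ i, IsAffineOpen (CohB1.genLocus _ (φ i))) ∧ ∀ x, ∃ i, x ∈ CohB1.genLocus _ (φ i) := by
    rcases N₁ with _ | N
    · refine ⟨0, fun _ => 0, fun i => ?_, fun x => (hcovσ x).choose.elim0⟩
      rw [show CohB1.genLocus _ (0 : Coh.structureModule X ⟶ CohB1.tensorPow L m) = ⊥ from
        eq_bot_iff.mpr fun x _ => (hcovσ x).choose.elim0]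
      exact isAffineOpen_bot X
    · exact ⟨N, σ, haff, hcovσ⟩
  let t : Fin (N + 1) → ProjUP.Γm (CohB1.tensorPow L m) := fun i => sv (φ i) ⊤
  have hlt : ∀ i, ProjMor.Sec.locus (t i) = CohB1.genLocus _ (φ i) := fun i =>
    H97.GenLocusAffine.locus_sv (φ i)
  obtain ⟨r, hr, τ, hτ⟩ := ProjMor.Poly.exists_map N k (X ↘ Spec (CommRingCat.of k)) _ hLm t
    (ProjMor.Embed.generatedBy_of_locus t fun x => by simpa only [hlt] using hφcov x)
  let 𝒜 := CohB1.polyGrading N k
  let el : Fin (N + 1) → 𝒜 1 := fun i => ⟨MvPolynomial.X i, MvPolynomial.isHomogeneous_X k i⟩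
  have hcv := ProjMor.Main.cover (ProjMor.Poly.lin_mem N k) (ProjMor.Poly.adjoin_lin N k)
  have hinv : PicF.IsInvertible (Twist.twist 𝒜 1) :=
    ProjTilde.Invertible.twist_isInvertible_of_cover (fun x => by
      obtain ⟨c, hc⟩ := hcv x
      exact ⟨c, c.2, hc⟩) 1
  have hloc : ∀ i, ProjMor.Sec.locus (t i) =
      r ⁻¹ᵁ Proj.basicOpen 𝒜 (el i : MvPolynomial (Fin (N + 1)) k) := fun i => by
    rw [← ProjMor.Frame.locus_g hcv (el i)]
    exact (congrArg ProjMor.Sec.locus (hτ i)).symm.trans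
      ((ProjMor.Sec.locus_iso τ _).trans (ProjMor.Sec.locus_pullback hinv r _))
  haveI := ProjSpace.Basic.isProper_toSpec N k
  haveI : IsProper (r ≫ CohB1.ProjSpace.toSpec N k) := by rw [hr]; infer_instance
  haveI : IsProper r := IsProper.of_comp r (CohB1.ProjSpace.toSpec N k)
  haveI : IsAffineHom r := by
    refine isAffineHom_of_forall_exists_isAffineOpen r fun y => ?_
    by_cases hy : y ∈ Set.range r.base
    · obtain ⟨x, rfl⟩ := hy
      obtain ⟨i, hi⟩ := hφcov x
      refine ⟨_, ?_, Proj.isAffineOpen_basicOpen 𝒜 _ (el i).2 one_pos, ?_⟩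
      · rw [← hlt, hloc] at hi
        exact hi
      · exact hloc i ▸ hlt i ▸ hφaff i
    · obtain ⟨_, ⟨V : (CohB1.ProjSpace N k).Opens, hV, rfl⟩, hyV, hVsub⟩ :=
        (CohB1.ProjSpace N k).isBasis_affineOpens.exists_subset_of_mem_open (a := y)
          (Set.mem_compl hy) r.isClosedMap.isClosed_range.isOpen_compl
      refine ⟨V, hyV, hV, ?_⟩
      have : r ⁻¹ᵁ V = ⊥ := eq_bot_iff.mpr fun x hx => (hVsub hx ⟨x, rfl⟩).elim
      rw [this]
      exact isAffineOpen_bot X
  exact ⟨m, hm, N, r, IsFinite.iff_isProper_and_isAffineHom.mpr ⟨inferInstance, inferInstance⟩, hr, ⟨τ⟩⟩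

/-- **Serre vanishing.** -/
theorem exists_subsingleton {L F : X.Modules} (hA : CohB1.IsAmple L) (hF : Coh.IsCoh F) :
    ∃ n₀ : ℕ, ∀ n, n₀ ≤ n → ∀ q : ℕ,
      Subsingleton (Coh.HH X (CohB1.tensorMod F (CohB1.tensorPow L n)) (q + 1)) := by
  haveI := isNoetherian_of_proper k (X := X)
  obtain ⟨m, hm, N, r, hr, hrs, ⟨τ⟩⟩ := exists_finite_map k hA
  haveI := hr
  haveI := ProjSpace.Basic.isProper_toSpec N k
  haveI : IsLocallyNoetherian (CohB1.ProjSpace N k) :=
    LocallyOfFiniteType.isLocallyNoetherian (CohB1.ProjSpace.toSpec N k)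
  set O1 := ProjCoh.Coherent.tw N k 1
  have hO1 : PicF.IsInvertible O1 := ProjCoh.Coherent.isInvertible_tw 1
  have hL := hA.1
  have hG : ∀ s : ℕ, Coh.IsCoh (CohB1.tensorMod F (CohB1.tensorPow L s)) := fun s =>
    CohBasics.Closure.isCoh_of_iso (comm _ _) (Snapper.Twist.isCoh_twist (TensorMod.Invertible.isInvertible_tensorPow hL s) hF)
  choose d₀ hd₀ using fun s => ProjCoh.Coherent.exists_forall_subsingleton_tensorPow
    ((Coh.push r).obj (CohB1.tensorMod F (CohB1.tensorPow L s))) (Cyc.PP.Push.isCoh_push r (hG s))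
  refine ⟨m * (Finset.range m).sup d₀, fun n hn q => ?_⟩
  set s := n % m
  set d := n / m
  have hd : d₀ s ≤ d := by
    refine (Finset.le_sup (f := d₀) (Finset.mem_range.2 (Nat.mod_lt n hm))).trans
      ((Nat.le_div_iff_mul_le hm).2 ?_)
    rw [mul_comm]; exact hn
  haveI := hd₀ s d hd q
  let G := CohB1.tensorMod F (CohB1.tensorPow L s)
  haveI : (CohB1.tensorMod G (CohB1.tensorPow (CohB1.tensorPow L m) d)).IsQuasicoherent :=
    (CohBasics.Closure.isCoh_of_iso (comm _ G) (Snapper.Twist.isCoh_twist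
      (TensorMod.Invertible.isInvertible_tensorPow
        (TensorMod.Invertible.isInvertible_tensorPow hL m) d) (hG s))).1
  let e : CohB1.tensorMod ((Coh.push r).obj G) (CohB1.tensorPow O1 d) ≅
      (Coh.push r).obj (CohB1.tensorMod G (CohB1.tensorPow (CohB1.tensorPow L m) d)) :=
    comm _ _ ≪≫ (Modules.ProjFormula.projIso r (E := CohB1.tensorPow O1 d)
      (Modules.DualBasis.hasDBases_of_isFinLocFree (TensorMod.LocFree.of_rank
        (TensorMod.LocFree.of_isInvertible
          (TensorMod.Invertible.isInvertible_tensorPow hO1 d))))).app G ≪≫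
    (Coh.push r).mapIso (comm _ _ ≪≫ tensorIso (Iso.refl G)
      (Ample.Pow.pullbackPow r O1 d ≪≫ Ample.Pow.powIso τ d))
  have h1 : Subsingleton (Coh.HH (CohB1.ProjSpace N k) ((Coh.push r).obj
      (CohB1.tensorMod G (CohB1.tensorPow (CohB1.tensorPow L m) d))) (q + 1)) :=
    (isoK k e (q + 1)).symm.toEquiv.subsingleton
  haveI : Subsingleton (Coh.HH X (CohB1.tensorMod G (CohB1.tensorPow (CohB1.tensorPow L m) d)) (q + 1)) :=
    @Equiv.subsingleton _ _ (ZarCoh.Morph.affineEquiv r _ (q + 1)).toEquiv.symm h1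
  exact (isoK k (assoc _ _ _ ≪≫ tensorIso (Iso.refl F)
    (tensorIso (Iso.refl _) (Ample.Pow.powMul L m d) ≪≫ (Ample.Pow.powAdd L _ _).symm ≪≫
      Ample.Pow.powCongr L (Nat.mod_add_div n m))) (q + 1)).symm.toEquiv.subsingleton

end Groth.Agent.H78.Existence.AmpleVanish
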