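import Groth.Agent.H78.Formal.Sys
import Groth.Agent.H78.Rees.System

/-!
# The graded system of the kernels of the transition maps of a coherent formal module
-/

set_option linter.style.haveILetI false

noncomputable section

universe u

open CategoryTheory Limits AlgebraicGeometry Opposite TopologicalSpace

namespace Groth.Agent.H78.Existence.KerSys

open Groth.Agent.Lib Groth.Agent.Lib.CohBasics.Affine
open Groth.Agent.H78.Formal.Sections Groth.Agent.H78.FormalFun.Basic
open Groth.Agent.H78.Formal.Principal (smulMod_mul)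
open Groth.Agent.H78.Rees

variable {A : Type u} [CommRing A] {X : Scheme.{u}} [X.Over (Spec (CommRingCat.of A))]
variable {I : Ideal A} {G : ℕᵒᵖ ⥤ X.Modules}

/-- The `n`-th transition map. -/
abbrev t (G : ℕᵒᵖ ⥤ X.Modules) (n : ℕ) : G.obj (op (n + 1)) ⟶ G.obj (op n) :=
  G.map (homOfLE (Nat.le_succ n)).op

variable (hG : _root_.Formal.IsCohFormal I G)
include hG

theorem epi_t (n : ℕ) : Epi (t G n) := Formal.Sys.epi_map hG (Nat.le_succ n)

theorem exists_lift {a : A} (ha : a ∈ I) (n : ℕ) :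
    ∃ ν : G.obj (op (n + 1)) ⟶ G.obj (op (n + 1 + 1)),
      t G (n + 1) ≫ ν = _root_.Formal.smulMod A _ a := by
  haveI := Formal.Sys.qcoh hG (n + 1 + 1)
  haveI := Formal.Sys.qcoh hG (n + 1)
  haveI := epi_t hG (n + 1)
  refine Formal.Sys.exists_desc _ _ fun U hU s hs => ?_
  rw [(Formal.Sys.succ_spec hG (n + 1) hU).2] at hs
  rw [smulMod_app, ← Submodule.mem_bot Γ(X, U), ← Formal.Sys.killed hG (n + 1 + 1) hU,
    pow_succ' (sIdeal I U) (n + 1 + 1), mul_smul]
  exact Submodule.smul_mem_smul (mem_sIdeal ha) hs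

/-- Multiplication by an element of `I`, as a map to the next term. -/
def ν {a : A} (ha : a ∈ I) (n : ℕ) : G.obj (op (n + 1)) ⟶ G.obj (op (n + 1 + 1)) :=
  (exists_lift hG ha n).choose

@[reassoc]
lemma t_ν {a : A} (ha : a ∈ I) (n : ℕ) : t G (n + 1) ≫ ν hG ha n = _root_.Formal.smulMod A _ a :=
  (exists_lift hG ha n).choose_spec

lemma ν_t {a : A} (ha : a ∈ I) (n : ℕ) : ν hG ha n ≫ t G (n + 1) = _root_.Formal.smulMod A _ a := by
  haveI := epi_t hG (n + 1)
  rw [← cancel_epi (t G (n + 1)), t_ν_assoc, smulMod_comp]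

lemma ι_smul_eq_zero {a : A} (ha : a ∈ I) (n : ℕ) :
    kernel.ι (t G n) ≫ _root_.Formal.smulMod A (G.obj (op (n + 1))) a = 0 := by
  haveI := Formal.Sys.qcoh hG (n + 1)
  haveI := Formal.Sys.qcoh hG n
  haveI := QCoh.Closure.isQCoh_kernel (t G n)
  refine hom_ext_affine fun U hU s => ?_
  have h0 : (t G n).app U ((kernel.ι (t G n)).app U s) = 0 :=
    ConcreteCategory.congr_hom (congrArg (fun χ => χ.app U) (kernel.condition (t G n))) s
  rw [(Formal.Sys.succ_spec hG n hU).2] at h0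
  change (_root_.Formal.smulMod A _ a).app U ((kernel.ι (t G n)).app U s) = 0
  rw [smulMod_app, ← Submodule.mem_bot Γ(X, U), ← Formal.Sys.killed hG (n + 1) hU,
    pow_succ' (sIdeal I U) (n + 1), mul_smul]
  exact Submodule.smul_mem_smul (mem_sIdeal ha) h0

/-- Multiplication by an element of `I` between the kernels. -/
def xker {a : A} (ha : a ∈ I) (n : ℕ) : kernel (t G n) ⟶ kernel (t G (n + 1)) :=
  kernel.lift _ (kernel.ι (t G n) ≫ ν hG ha n) (by
    rw [Category.assoc, ν_t, ι_smul_eq_zero hG ha])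

@[reassoc]
lemma xker_ι {a : A} (ha : a ∈ I) (n : ℕ) :
    xker hG ha n ≫ kernel.ι (t G (n + 1)) = kernel.ι (t G n) ≫ ν hG ha n :=
  kernel.lift_ι _ _ _

lemma ν_comm {a b : A} (ha : a ∈ I) (hb : b ∈ I) (n : ℕ) :
    ν hG ha n ≫ ν hG hb (n + 1) = ν hG hb n ≫ ν hG ha (n + 1) := by
  haveI := epi_t hG (n + 1)
  haveI := epi_t hG (n + 1 + 1)
  have h : ∀ {c e : A} (_ : c ∈ I) (he : e ∈ I), t G (n + 1 + 1) ≫
      (_root_.Formal.smulMod A (G.obj (op (n + 1 + 1))) c ≫ ν hG he (n + 1)) =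
        _root_.Formal.smulMod A (G.obj (op (n + 1 + 1 + 1))) (e * c) := fun {c e} _ he => by
    rw [← Category.assoc, ← smulMod_comp, Category.assoc, t_ν hG he (n + 1), smulMod_mul]; exact smulMod_comp _ _
  rw [← cancel_epi (t G (n + 1)), t_ν_assoc, t_ν_assoc, ← cancel_epi (t G (n + 1 + 1)),
    h ha hb, h hb ha, mul_comm]

variable [IsLocallyNoetherian X]

/-- The system of the kernels. -/
def sys {r : ℕ} (f : Fin r → A) (hf : ∀ i, f i ∈ I) : System.Sys X r where
  G n := kernel (t G n)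
  coh n := CohBasics.Closure.isCoh_kernel _ (hG.1 (n + 1)) (hG.1 n).1
  x i n := xker hG (hf i) n
  comm i j n := by
    rw [← cancel_mono (kernel.ι (t G (n + 1 + 1))), Category.assoc, Category.assoc, xker_ι, xker_ι,
      xker_ι_assoc, xker_ι_assoc, ν_comm hG (hf i) (hf j)]

theorem gen_sys {r : ℕ} (f : Fin r → A) (hf : ∀ i, f i ∈ I) (hI : I = Ideal.span (Set.range f)) :
    System.Gen (sys hG f hf) := by
  intro U hU
  refine ⟨0, fun n _ z _ => ?_⟩
  haveI := Formal.Sys.qcoh hG (n + 1 + 1)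
  haveI := Formal.Sys.qcoh hG (n + 1)
  let ι := fun n => secₗ (kernel.ι (t G n)) U
  let P : Submodule Γ(X, U) Γ(G.obj (op (n + 1 + 1)), U) :=
    Submodule.map (ι (n + 1)) (⨆ i, LinearMap.range (secₗ ((sys hG f hf).x i n) U))
  have hz : ι (n + 1) z ∈ sIdeal I U ^ (n + 1 + 1) • (⊤ : Submodule Γ(X, U) Γ(G.obj (op (n + 1 + 1)), U)) := by
    refine ((Formal.Sys.succ_spec hG (n + 1) hU).2 _).1 ?_
    exact (congrArg (fun s : kernel (t G (n + 1)) ⟶ _ => s.app U z) (kernel.condition _)).trans rfl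
  rw [pow_succ', mul_smul] at hz
  have hle : sIdeal I U • (sIdeal I U ^ (n + 1) •
      (⊤ : Submodule Γ(X, U) Γ(G.obj (op (n + 1 + 1)), U))) ≤ P := by
    refine Submodule.smul_le.2 fun a ha m hm => ?_
    have hspan : sIdeal I U = Ideal.span (Set.range fun i => sMap A U (f i)) := by
      rw [sIdeal, hI, Ideal.map_span, ← Set.range_comp]; rfl
    rw [hspan] at ha
    refine (Ideal.span_le.2 ?_ : Ideal.span (Set.range fun i => sMap A U (f i)) ≤
      Submodule.comap (LinearMap.toSpanSingleton Γ(X, U) _ m) P) ha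
    rintro _ ⟨i, rfl⟩
    have hm' : (t G (n + 1)).app U m ∈
        sIdeal I U ^ (n + 1) • (⊤ : Submodule Γ(X, U) Γ(G.obj (op (n + 1)), U)) := by
      have := Submodule.mem_map_of_mem (f := secₗ (t G (n + 1)) U) hm
      rw [Submodule.map_smul''] at this
      exact Submodule.smul_mono le_rfl le_top this
    let T := ShortComplex.mk (kernel.ι (t G n)) (t G n) (kernel.condition _)
    haveI : Mono T.f := inferInstanceAs (Mono (kernel.ι (t G n)))
    obtain ⟨w, hw⟩ := QCoh.Closure.sections_exact (S := T)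
      (T.exact_of_f_is_kernel (kernelIsKernel (t G n))) U _
      (((Formal.Sys.succ_spec hG n hU).2 _).2 hm')
    refine ⟨secₗ ((sys hG f hf).x i n) U w, Submodule.mem_iSup_of_mem i ⟨w, rfl⟩, ?_⟩
    change (xker hG (hf i) n ≫ kernel.ι (t G (n + 1))).app U w = sMap A U (f i) • m
    rw [xker_ι, ← smulMod_app, ← t_ν hG (hf i) n]
    change (ν hG (hf i) n).app U ((kernel.ι (t G n)).app U w) = _
    rw [hw]
    rfl
  obtain ⟨z', hz', he⟩ := hle hz
  rwa [← QCoh.Closure.sections_injective_of_mono (kernel.ι (t G (n + 1))) U he]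

end Groth.Agent.H78.Existence.KerSys
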