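import Groth.Agent.H78.Existence.Vanish
import Groth.Agent.H34.HOne
import Groth.Agent.Lib.ProjCoh.Gen
import Groth.Agent.Lib.RefHull.Tensor

/-!
# Lifting generators through a tower with vanishing first cohomology
-/

set_option linter.style.haveILetI false

noncomputable section

universe u

open CategoryTheory Limits AlgebraicGeometry Opposite TopologicalSpace

namespace Groth.Agent.H78.Existence.Lift

open Groth.Agent.Lib Groth.Agent.Lib.Modules.Free
open Groth.Agent.Lib.TensorMod.Basic
open Groth.Agent.H78.Existence.Vanish (tw)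

variable {X : Scheme.{u}}

/-- A compatible family of maps from a coherent module, the first one an epimorphism. -/
theorem exists_family [CompactSpace X] {L : X.Modules} (hL : PicF.IsInvertible L) (d : ℕ)
    (M : ℕ → X.Modules) (h0 : Coh.IsCoh (M 0)) (τ : ∀ n, M (n + 1) ⟶ M n)
    (D : ℕ → X.Modules) (δ : ∀ n, D n ⟶ M (n + 1)) (hz : ∀ n, δ n ≫ τ n = 0)
    (hS : ∀ n, (ShortComplex.mk (δ n) (τ n) (hz n)).ShortExact)
    (hv : ∀ n, Subsingleton (Coh.HH X ((tw L d).obj (D n)) 1))
    (hgen : ∀ x, Ample.GG.GenAt ((tw L d).obj (M 0)) x) :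
    ∃ (P : X.Modules) (u : ∀ n, P ⟶ M n),
      Coh.IsCoh P ∧ Epi (u 0) ∧ ∀ n, u (n + 1) ≫ τ n = u n := by
  obtain ⟨N, e, hN⟩ := Vanish.exists_inverse hL d
  have hc : Coh.IsCoh ((tw L d).obj (M 0)) := RefHull.Tensor.isCoh_tensorMod h0
    (Ample.GG.isCoh_of_isInvertible (TensorMod.Invertible.isInvertible_tensorPow hL d))
  obtain ⟨k, p, hp⟩ := ProjCoh.Gen.exists_epi_freeMod hc hgen
  have hsurj : ∀ n (s : Γ((tw L d).obj (M n), ⊤)),
      ∃ s', ((tw L d).map (τ n)).app ⊤ s' = s := fun n => by
    have hS' := Vanish.shortExact_tw hL (hS n) d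
    exact H34.HOne.app_top_surjective hS' (hv n)
  choose lift hlift using hsurj
  let s : ∀ n, Fin k → Γ((tw L d).obj (M n), ⊤) := fun n =>
    Nat.rec (motive := fun n => Fin k → Γ((tw L d).obj (M n), ⊤))
      (fun i => p.app ⊤ (gen X i)) (fun n r i => lift n (r i)) n
  let c := ProjCoh.Coherent.cancelNat e
  refine ⟨(tensorBy N).obj (FlatMod.freeMod X k),
    fun n => (tensorBy N).map (freeHom (s n)) ≫ c.hom.app (M n),
    RefHull.Tensor.isCoh_tensorMod (Perfect.Coherent.isCoh_freeMod _ k)
      (Ample.GG.isCoh_of_isInvertible hN), ?_, fun n => ?_⟩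
  · have hs0 : freeHom (s 0) = p := freeHom_ext fun i => freeHom_app_gen _ _
    haveI := hp
    change Epi ((tensorBy N).map (freeHom (s 0)) ≫ c.hom.app (M 0))
    rw [hs0]
    haveI : Epi ((tensorBy N).map p) := by
      haveI : (tensorBy N).IsEquivalence :=
        (CategoryTheory.Equivalence.mk (tensorBy N) (tensorBy (CohB1.tensorPow L d))
          (ProjCoh.Coherent.cancelNat (comm N (CohB1.tensorPow L d) ≪≫ e)).symm
          (ProjCoh.Coherent.cancelNat e)).isEquivalence_functor
      exact (tensorBy N).map_epi p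
    exact @epi_comp _ _ _ _ _ _ this _ (@IsIso.epi_of_iso _ _ _ _ _ (c.app (M 0)).isIso_hom)
  · have h1 : freeHom (s (n + 1)) ≫ (tw L d).map (τ n) = freeHom (s n) := by
      rw [freeHom_comp]
      exact congrArg freeHom (funext fun i => hlift n _)
    dsimp only
    rw [← h1, Functor.map_comp, Category.assoc, Category.assoc]
    exact congrArg (_ ≫ ·) (c.hom.naturality (τ n)).symm

end Groth.Agent.H78.Existence.Lift
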