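import Groth.Agent.H78.Rees.System
import Groth.Agent.H78.Existence.AmpleVanish

/-!
# Uniform vanishing after twisting for a finitely generated graded system
-/

set_option linter.style.haveILetI false

noncomputable section

universe u

open CategoryTheory Limits AlgebraicGeometry Opposite TopologicalSpace

namespace Groth.Agent.H78.Existence.Vanish

open Groth.Agent.Lib Groth.Agent.Lib.Curves.LES Groth.Agent.Lib.CohBasics.Affine
open Groth.Agent.Lib.TensorMod.Basic
open Groth.Agent.H78.Formal.Sections Groth.Agent.H78.FormalFun.Basic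
open Groth.Agent.H78.Rees.System

variable {X : Scheme.{u}}

section Twist

variable (L : X.Modules)

/-- Twisting by the `d`-th power of `L`. -/
abbrev tw (d : ℕ) : X.Modules ⥤ X.Modules := tensorBy (CohB1.tensorPow L d)

variable {L} (hL : PicF.IsInvertible L)
include hL

/-- A tensor inverse of the `d`-th power. -/
theorem exists_inverse (d : ℕ) : ∃ (N : X.Modules) (_ : CohB1.tensorMod (CohB1.tensorPow L d) N ≅ Coh.structureModule X),
    PicF.IsInvertible N :=
  ⟨_, TensorMod.Invertible.tensorDualIso (TensorMod.Invertible.isInvertible_tensorPow hL d),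
    TensorMod.Invertible.isInvertible_dual (TensorMod.Invertible.isInvertible_tensorPow hL d)⟩

theorem isEquivalence_tw (d : ℕ) : (tw L d).IsEquivalence := by
  obtain ⟨N, e, hN⟩ := exists_inverse hL d
  exact (CategoryTheory.Equivalence.mk (tw L d) (tensorBy N) (ProjCoh.Coherent.cancelNat e).symm
    (ProjCoh.Coherent.cancelNat (comm N (CohB1.tensorPow L d) ≪≫ e))).isEquivalence_functor

theorem shortExact_tw {S : ShortComplex X.Modules} (hS : S.ShortExact) (d : ℕ) :
    haveI := isEquivalence_tw hL d
    haveI : (tw L d).Additive := Functor.additive_of_preserves_binary_products _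
    (S.map (tw L d)).ShortExact := by
  haveI := isEquivalence_tw hL d
  haveI : (tw L d).Additive := Functor.additive_of_preserves_binary_products _
  exact hS.map_of_exact _

end Twist

variable (A : Type u) [CommRing A] [IsNoetherianRing A] [X.Over (Spec (CommRingCat.of A))]
  [IsProper (X ↘ Spec (CommRingCat.of A))] {L : X.Modules}

include A in
/-- Serre vanishing, uniformly along a finitely generated graded system. -/
theorem exists_vanish (hA : CohB1.IsAmple L) : ∀ {r : ℕ} (S : Sys X r), Gen S →
    ∃ d₀ : ℕ, ∀ n d, d₀ ≤ d → ∀ q, Subsingleton (Coh.HH X ((tw L d).obj (S.G n)) (q + 1)) := by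
  haveI := AmpleVanish.isNoetherian_of_proper A (X := X)
  intro r
  induction r with
  | zero =>
    intro S hS
    obtain ⟨N, hN⟩ := exists_uniform (X := X)
      (fun U N => ∀ n, N ≤ n → (⊤ : Submodule Γ(X, U) Γ(S.G (n + 1), U)) ≤ ⊥)
      (fun U m n h hm k hk => hm k (h.trans hk))
      (fun U hU => (hS U hU).imp fun N hN n hn => (hN n hn).trans (iSup_le fun i => i.elim0))
    choose d hd using fun n => AmpleVanish.exists_subsingleton A hA (S.coh n)
    refine ⟨(Finset.range (N + 1)).sup d, fun n e he q => ?_⟩
    rcases Nat.lt_or_ge n (N + 1) with h | h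
    · exact hd n e ((Finset.le_sup (Finset.mem_range.2 h)).trans he) q
    · obtain ⟨m, rfl⟩ : ∃ m, n = m + 1 := ⟨n - 1, by omega⟩
      haveI := (S.coh (m + 1)).1
      haveI := isEquivalence_tw hA.1 e
      have h0 : 𝟙 (S.G (m + 1)) = 0 := eq_zero_of_cover _ fun y => by
        obtain ⟨U, hU, hy, hz⟩ := hN y
        exact ⟨U, hU, hy, fun s => (Submodule.mem_bot Γ(X, U)).mp
          (hz m (by omega) (Submodule.mem_top (x := s)))⟩
      have h1 : 𝟙 ((tw L e).obj (S.G (m + 1))) = 0 := by
        rw [← (tw L e).map_id, h0, Functor.map_zero]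
      refine subsingleton_of_forall_eq 0 fun z => ?_
      rw [← LinearMap.id_apply (R := A) z, ← mapK_id A ((tw L e).obj (S.G (m + 1))) (q + 1), h1]
      exact H_zero (q + 1) z
  | succ r ih =>
    intro S hS
    obtain ⟨dK, hK⟩ := ih (kerSys S) (gen_kerSys S hS)
    obtain ⟨dC, hC⟩ := ih (cokerSys S) (gen_cokerSys S hS)
    obtain ⟨d1, h1⟩ := AmpleVanish.exists_subsingleton A hA (S.coh 0)
    refine ⟨max d1 (max dK dC), fun n d hd => ?_⟩
    haveI := isEquivalence_tw hA.1 d
    haveI : (tw L d).Additive := Functor.additive_of_preserves_binary_products _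
    induction n with
    | zero => exact fun q => h1 d (le_of_max_le_left hd) q
    | succ n ihn =>
      intro q
      have hI : Subsingleton (Coh.HH X ((tw L d).obj (Abelian.image (last S n))) (q + 1)) := by
        refine subsingleton_of_forall_eq 0 fun z => ?_
        have hS' := shortExact_tw hA.1 (seqK_shortExact S n) d
        haveI : Subsingleton (Coh.HH X ((seqK S n).map (tw L d)).X₁ (q + 1 + 1)) :=
          hK n d ((le_max_left _ _).trans ((le_max_right _ _).trans hd)) (q + 1)
        obtain ⟨w, hw⟩ := ((exactK₃ A hS' (q + 1) (q + 1 + 1) rfl) z).mp (Subsingleton.elim _ _)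
        haveI : Subsingleton (Coh.HH X ((seqK S n).map (tw L d)).X₂ (q + 1)) := ihn q
        rw [← hw, Subsingleton.elim w 0, map_zero]; rfl
      refine subsingleton_of_forall_eq 0 fun z => ?_
      have hS' := shortExact_tw hA.1 (seqC_shortExact S n) d
      haveI : Subsingleton (Coh.HH X ((seqC S n).map (tw L d)).X₃ (q + 1)) :=
        hC n d ((le_max_right _ _).trans ((le_max_right _ _).trans hd)) q
      obtain ⟨w, hw⟩ := ((exactK₂ A hS' (q + 1)) z).mp (Subsingleton.elim _ _)
      haveI : Subsingleton (Coh.HH X ((seqC S n).map (tw L d)).X₁ (q + 1)) := hI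
      rw [← hw, Subsingleton.elim w 0, map_zero]; rfl

end Groth.Agent.H78.Existence.Vanish
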